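import Mathlib.Init

/-!
Sparse columns of nine 78 x 78 matrices over GF(13) satisfying the defining relations of Fi22:
in generator `l`, column `j` is the list of the pairs (row, nonzero entry).
-/

namespace Cfsg.Agent.Fi22Rep78

def g0 : List (List (Nat × Nat)) := [
  [(0, 1), (1, 12), (11, 1), (25, 12), (27, 12), (31, 1), (34, 1), (39, 1), (45, 12), (47, 12), (53, 12), (60, 1), (61, 1), (63, 1), (65, 12), (72, 6), (74, 1), (77, 3)],
  [(1, 12), (72, 5), (74, 10), (77, 5)],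
  [(2, 1), (5, 12), (11, 1), (46, 1), (52, 12), (53, 12), (54, 12), (60, 1), (61, 1), (63, 1), (74, 1)],
  [(3, 1), (6, 12), (18, 1), (25, 12), (33, 12), (39, 1), (40, 1), (47, 12), (52, 12), (53, 12), (59, 1), (60, 1), (61, 1), (63, 1), (67, 12), (68, 12), (74, 4), (75, 1), (77, 9)],
  [(4, 1), (7, 12), (19, 1), (27, 12), (32, 12), (38, 1), (39, 1), (45, 12), (53, 12), (54, 12), (60, 1), (61, 1), (63, 1), (64, 1), (70, 12), (72, 10), (73, 12), (74, 10), (75, 1)],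
  [(5, 12), (74, 11), (77, 6)],
  [(6, 12), (74, 9), (77, 10)],
  [(7, 12), (72, 2), (74, 8)],
  [(8, 1), (12, 12), (18, 1), (31, 12), (37, 1), (46, 1), (52, 12), (53, 12), (54, 12), (59, 1), (60, 1), (61, 1), (63, 1), (67, 12), (68, 12), (72, 8), (74, 9), (75, 1), (77, 5)],
  [(9, 1), (13, 12), (19, 1), (34, 12), (41, 1), (46, 1), (52, 12), (53, 12), (54, 12), (56, 12), (60, 1), (61, 1), (63, 1), (64, 1), (65, 1), (70, 12), (73, 12), (74, 8), (75, 1), (77, 11)],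
  [(10, 1), (14, 12), (26, 1), (32, 12), (33, 12), (39, 1), (53, 12), (60, 1), (63, 1), (67, 12), (73, 12), (74, 6), (75, 1), (77, 10)],
  [(11, 12), (74, 5), (77, 11)],
  [(12, 12), (72, 4), (74, 8), (77, 2)],
  [(13, 12), (74, 4), (77, 2)],
  [(14, 12), (77, 2)],
  [(15, 1), (20, 12), (25, 1), (31, 12), (37, 1), (72, 8), (74, 2), (77, 5)],
  [(16, 1), (21, 12), (26, 1), (38, 12), (40, 12), (44, 1), (46, 1), (48, 1), (53, 12), (56, 12), (74, 4), (75, 1), (77, 11)],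
  [(17, 1), (22, 12), (27, 1), (34, 12), (41, 1), (56, 12), (65, 1), (74, 5), (77, 7)],
  [(18, 12), (72, 1), (74, 11), (77, 10)],
  [(19, 12), (74, 8), (77, 12)],
  [(20, 12), (72, 4), (74, 5), (77, 9)],
  [(21, 12), (72, 7), (74, 11), (77, 8)],
  [(22, 12), (74, 11), (77, 12)],
  [(23, 1), (28, 12), (32, 1), (38, 12), (44, 1), (47, 12), (54, 1), (55, 1), (63, 12), (64, 12), (65, 12), (73, 1), (74, 5)],
  [(24, 1), (29, 12), (33, 1), (40, 12), (45, 12), (48, 1), (51, 1), (52, 1), (56, 12), (59, 12), (60, 12), (67, 1), (72, 1), (77, 6)],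
  [(25, 12), (72, 1), (74, 2), (77, 12)],
  [(26, 12), (72, 2), (74, 2), (77, 10)],
  [(27, 12), (74, 12), (77, 1)],
  [(28, 12), (72, 7), (74, 2), (77, 6)],
  [(29, 12), (72, 6), (74, 1), (77, 6)],
  [(30, 1), (35, 12), (39, 1), (45, 12), (47, 12), (51, 1), (55, 1), (61, 1), (65, 12), (68, 12), (70, 12), (72, 1), (74, 2), (75, 1), (77, 12)],
  [(31, 12), (74, 7)],
  [(32, 12), (72, 2), (74, 11), (77, 11)],
  [(33, 12), (72, 1), (74, 8)],
  [(34, 12), (72, 7), (74, 9), (77, 5)],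
  [(35, 12), (72, 6), (74, 11), (77, 7)],
  [(36, 1), (42, 12), (46, 1), (52, 12), (54, 12), (59, 1), (61, 1), (64, 1), (68, 12), (70, 12), (74, 12), (75, 1)],
  [(37, 12), (74, 6)],
  [(38, 12), (74, 6)],
  [(39, 12), (72, 1), (74, 2), (77, 12)],
  [(40, 12), (72, 5), (74, 4), (77, 7)],
  [(41, 12), (72, 7), (74, 12), (77, 1)],
  [(42, 12), (74, 1)],
  [(43, 1), (49, 12), (53, 1), (60, 12), (63, 12), (67, 1), (73, 1), (74, 1)],
  [(44, 12), (74, 7)],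
  [(45, 12), (74, 7)],
  [(46, 12), (72, 7), (74, 1), (77, 6)],
  [(47, 12), (72, 5), (74, 11), (77, 1)],
  [(48, 12), (72, 1), (74, 1), (77, 7)],
  [(49, 12), (74, 12)],
  [(58, 1), (74, 12)],
  [(51, 12), (74, 6)],
  [(52, 12), (72, 3), (74, 12), (77, 10)],
  [(53, 12), (72, 12), (74, 12), (77, 1)],
  [(54, 12), (72, 7)],
  [(55, 12), (72, 1), (74, 2), (77, 5)],
  [(56, 12), (72, 12), (74, 12)],
  [(66, 1), (74, 1)],
  [(50, 1), (74, 1)],
  [(59, 12), (72, 10), (74, 1), (77, 3)],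
  [(60, 12), (74, 1)],
  [(61, 12), (72, 3)],
  [(71, 1), (72, 1), (74, 1), (77, 12)],
  [(63, 12), (72, 12)],
  [(64, 12), (77, 7)],
  [(65, 12), (72, 12), (74, 11), (77, 1)],
  [(57, 1), (74, 12)],
  [(67, 12), (74, 12)],
  [(68, 12), (72, 10)],
  [(74, 12), (76, 1)],
  [(70, 12), (77, 3)],
  [(62, 1), (72, 12), (74, 12), (77, 1)],
  [(72, 1)],
  [(73, 12), (77, 12)],
  [(74, 1)],
  [(75, 12), (77, 10)],
  [(69, 1), (74, 1)],
  [(77, 1)]]

def g1 : List (List (Nat × Nat)) := [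
  [(1, 1), (11, 1), (25, 12), (27, 12), (37, 1), (39, 1), (41, 1), (51, 12), (52, 12), (54, 12), (55, 12), (56, 12), (59, 1), (61, 2), (64, 1), (65, 1), (68, 12), (70, 12), (71, 1), (76, 12)],
  [(0, 1), (11, 1), (25, 12), (27, 12), (37, 1), (39, 1), (41, 1), (51, 12), (52, 12), (54, 12), (55, 12), (56, 12), (59, 1), (61, 2), (64, 1), (65, 1), (68, 12), (70, 12), (71, 1), (76, 12)],
  [(5, 1), (31, 12), (34, 12), (37, 1), (41, 1), (46, 1), (52, 12), (54, 12), (56, 12), (61, 1), (65, 1), (71, 1), (76, 12)],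
  [(6, 1), (18, 1), (25, 12), (33, 12), (37, 1), (39, 1), (48, 1), (51, 12), (52, 12), (55, 12), (56, 12), (59, 1), (61, 1), (65, 1), (68, 12), (71, 1), (76, 12)],
  [(7, 1), (19, 1), (27, 12), (32, 12), (39, 1), (41, 1), (44, 1), (51, 12), (54, 12), (55, 12), (56, 12), (61, 1), (64, 1), (65, 1), (70, 12), (71, 1), (76, 12)],
  [(2, 1), (31, 12), (34, 12), (37, 1), (41, 1), (46, 1), (52, 12), (54, 12), (56, 12), (61, 1), (65, 1), (71, 1), (76, 12)],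
  [(3, 1), (18, 1), (25, 12), (33, 12), (37, 1), (39, 1), (48, 1), (51, 12), (52, 12), (55, 12), (56, 12), (59, 1), (61, 1), (65, 1), (68, 12), (71, 1), (76, 12)],
  [(4, 1), (19, 1), (27, 12), (32, 12), (39, 1), (41, 1), (44, 1), (51, 12), (54, 12), (55, 12), (56, 12), (61, 1), (64, 1), (65, 1), (70, 12), (71, 1), (76, 12)],
  [(12, 1), (31, 12), (37, 1), (40, 12), (46, 1), (48, 1), (52, 12), (56, 12), (64, 12), (70, 1), (71, 1), (76, 12)],
  [(13, 1), (34, 12), (38, 12), (41, 1), (44, 1), (46, 1), (54, 12), (56, 12), (59, 12), (65, 1), (68, 1), (71, 1), (76, 12)],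
  [(14, 1), (26, 1), (32, 12), (33, 12), (39, 1), (44, 1), (48, 1), (51, 12), (55, 12), (56, 12), (65, 1), (71, 1), (76, 12)],
  [(11, 12)],
  [(8, 1), (31, 12), (37, 1), (40, 12), (46, 1), (48, 1), (52, 12), (56, 12), (64, 12), (70, 1), (71, 1), (76, 12)],
  [(9, 1), (34, 12), (38, 12), (41, 1), (44, 1), (46, 1), (54, 12), (56, 12), (59, 12), (65, 1), (68, 1), (71, 1), (76, 12)],
  [(10, 1), (26, 1), (32, 12), (33, 12), (39, 1), (44, 1), (48, 1), (51, 12), (55, 12), (56, 12), (65, 1), (71, 1), (76, 12)],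
  [(20, 1), (47, 12), (54, 1), (55, 1), (61, 12), (64, 12), (65, 12), (70, 1)],
  [(21, 1), (38, 12), (40, 12), (44, 1), (46, 1), (48, 1), (56, 12), (59, 12), (64, 12), (71, 1), (75, 1)],
  [(22, 1), (45, 12), (51, 1), (52, 1), (59, 12), (61, 12), (68, 1)],
  [(18, 12)],
  [(19, 12)],
  [(15, 1), (47, 12), (54, 1), (55, 1), (61, 12), (64, 12), (65, 12), (70, 1)],
  [(16, 1), (38, 12), (40, 12), (44, 1), (46, 1), (48, 1), (56, 12), (59, 12), (64, 12), (71, 1), (75, 1)],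
  [(17, 1), (45, 12), (51, 1), (52, 1), (59, 12), (61, 12), (68, 1)],
  [(28, 1), (47, 12), (54, 1), (55, 1), (64, 12), (65, 12), (68, 12), (75, 1)],
  [(29, 1), (45, 12), (51, 1), (52, 1), (59, 12), (70, 12), (75, 1), (76, 1)],
  [(25, 12)],
  [(26, 12)],
  [(27, 12)],
  [(23, 1), (47, 12), (54, 1), (55, 1), (64, 12), (65, 12), (68, 12), (75, 1)],
  [(24, 1), (45, 12), (51, 1), (52, 1), (59, 12), (70, 12), (75, 1), (76, 1)],
  [(35, 1), (61, 1), (68, 12), (70, 12), (75, 1)],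
  [(31, 12)],
  [(32, 12)],
  [(33, 12)],
  [(34, 12)],
  [(30, 1), (61, 1), (68, 12), (70, 12), (75, 1)],
  [(42, 1)],
  [(37, 12)],
  [(38, 12)],
  [(39, 12)],
  [(40, 12)],
  [(41, 12)],
  [(36, 1)],
  [(50, 1)],
  [(44, 12)],
  [(45, 12)],
  [(46, 12)],
  [(47, 12)],
  [(48, 12)],
  [(57, 1)],
  [(43, 1)],
  [(51, 12)],
  [(52, 12)],
  [(62, 1)],
  [(54, 12)],
  [(55, 12)],
  [(56, 12)],
  [(49, 1)],
  [(58, 1), (66, 12), (71, 1), (76, 12)],
  [(59, 12)],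
  [(69, 1)],
  [(61, 12)],
  [(53, 1)],
  [(72, 1)],
  [(64, 12)],
  [(65, 12)],
  [(66, 12)],
  [(74, 1)],
  [(68, 12)],
  [(60, 1)],
  [(70, 12)],
  [(71, 12)],
  [(63, 1)],
  [(77, 1)],
  [(67, 1)],
  [(75, 12)],
  [(76, 12)],
  [(73, 1)]]

def g2 : List (List (Nat × Nat)) := [
  [(0, 1), (1, 12), (2, 12), (15, 1), (17, 1), (30, 12), (31, 1), (34, 1), (45, 12), (47, 12), (62, 1), (65, 12), (68, 1), (69, 12), (70, 1), (72, 12), (75, 11), (76, 1)],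
  [(1, 12)],
  [(2, 12)],
  [(3, 1), (6, 12), (8, 12), (15, 1), (24, 1), (30, 12), (40, 1), (47, 12), (62, 1), (69, 12), (70, 1), (72, 12), (75, 12), (76, 1)],
  [(4, 1), (7, 12), (9, 12), (17, 1), (23, 1), (30, 12), (38, 1), (45, 12), (62, 1), (68, 1), (69, 12), (72, 12), (75, 12)],
  [(11, 1), (31, 12), (34, 12), (37, 1), (41, 1), (56, 12), (62, 12), (65, 1), (69, 1), (71, 1), (72, 1), (75, 1), (76, 12)],
  [(6, 12)],
  [(7, 12)],
  [(8, 12)],
  [(9, 12)],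
  [(10, 1), (14, 12), (16, 12), (23, 1), (24, 1), (30, 12), (62, 1), (69, 12), (72, 12)],
  [(5, 1), (31, 12), (34, 12), (37, 1), (41, 1), (56, 12), (62, 12), (65, 1), (69, 1), (71, 1), (72, 1), (75, 1), (76, 12)],
  [(18, 1), (40, 12), (48, 1), (56, 12), (62, 12), (69, 1), (71, 1), (75, 1), (76, 12), (77, 1)],
  [(19, 1), (38, 12), (44, 1), (62, 12), (71, 1), (72, 1), (74, 1), (75, 1)],
  [(14, 12)],
  [(15, 12)],
  [(16, 12)],
  [(17, 12)],
  [(12, 1), (40, 12), (48, 1), (56, 12), (62, 12), (69, 1), (71, 1), (75, 1), (76, 12), (77, 1)],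
  [(13, 1), (38, 12), (44, 1), (62, 12), (71, 1), (72, 1), (74, 1), (75, 1)],
  [(25, 1), (47, 12), (55, 1), (65, 12), (72, 12), (77, 1)],
  [(26, 1), (61, 1), (62, 12), (68, 12), (70, 12), (71, 1), (74, 1), (75, 2), (77, 1)],
  [(27, 1), (45, 12), (51, 1), (69, 12), (74, 1), (76, 1)],
  [(23, 12)],
  [(24, 12)],
  [(20, 1), (47, 12), (55, 1), (65, 12), (72, 12), (77, 1)],
  [(21, 1), (61, 1), (62, 12), (68, 12), (70, 12), (71, 1), (74, 1), (75, 2), (77, 1)],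
  [(22, 1), (45, 12), (51, 1), (69, 12), (74, 1), (76, 1)],
  [(32, 1), (61, 1), (68, 12), (70, 12), (72, 12), (75, 1), (77, 1)],
  [(33, 1), (61, 1), (68, 12), (69, 12), (70, 12), (74, 1), (75, 1), (76, 1)],
  [(30, 12)],
  [(31, 12)],
  [(28, 1), (61, 1), (68, 12), (70, 12), (72, 12), (75, 1), (77, 1)],
  [(29, 1), (61, 1), (68, 12), (69, 12), (70, 12), (74, 1), (75, 1), (76, 1)],
  [(34, 12)],
  [(39, 1), (61, 1), (68, 12), (70, 12), (75, 1)],
  [(43, 1)],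
  [(37, 12)],
  [(38, 12)],
  [(35, 1), (61, 1), (68, 12), (70, 12), (75, 1)],
  [(40, 12)],
  [(41, 12)],
  [(49, 1)],
  [(36, 1)],
  [(44, 12)],
  [(45, 12)],
  [(53, 1), (61, 12), (68, 1), (70, 1), (75, 12)],
  [(47, 12)],
  [(48, 12)],
  [(42, 1)],
  [(57, 1)],
  [(51, 12)],
  [(60, 1), (61, 12), (70, 1)],
  [(46, 1), (61, 12), (68, 1), (70, 1), (75, 12)],
  [(61, 12), (63, 1), (68, 1)],
  [(55, 12)],
  [(56, 12)],
  [(50, 1)],
  [(66, 1)],
  [(67, 1), (68, 12), (75, 1)],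
  [(52, 1), (61, 12), (70, 1)],
  [(61, 12)],
  [(62, 12)],
  [(54, 1), (61, 12), (68, 1)],
  [(70, 12), (73, 1), (75, 1)],
  [(65, 12)],
  [(58, 1)],
  [(59, 1), (68, 12), (75, 1)],
  [(68, 12)],
  [(69, 12)],
  [(70, 12)],
  [(71, 12)],
  [(72, 12)],
  [(64, 1), (70, 12), (75, 1)],
  [(74, 12)],
  [(75, 12)],
  [(76, 12)],
  [(77, 12)]]

def g3 : List (List (Nat × Nat)) := [
  [(2, 1), (11, 1), (15, 1), (17, 1), (37, 1), (41, 1), (43, 1), (56, 12), (58, 12), (60, 1), (61, 1), (63, 1), (65, 11)],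
  [(5, 1), (20, 1), (22, 1), (37, 1), (41, 1), (50, 1), (56, 12), (58, 12), (60, 1), (63, 1), (65, 3), (67, 12), (73, 12), (74, 1), (77, 1)],
  [(0, 1), (11, 1), (15, 1), (17, 1), (37, 1), (41, 1), (43, 1), (56, 12), (58, 12), (60, 1), (61, 1), (63, 1), (65, 11)],
  [(8, 1), (18, 1), (24, 1), (37, 1), (43, 1), (48, 1), (56, 12), (58, 12), (61, 1), (63, 1), (65, 3), (68, 12), (72, 12), (75, 1), (77, 1)],
  [(9, 1), (19, 1), (23, 1), (41, 1), (43, 1), (44, 1), (56, 12), (58, 12), (60, 1), (61, 1), (65, 8), (69, 12), (70, 12), (74, 1), (75, 1)],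
  [(1, 1), (20, 1), (22, 1), (37, 1), (41, 1), (50, 1), (56, 12), (58, 12), (60, 1), (63, 1), (65, 3), (67, 12), (73, 12), (74, 1), (77, 1)],
  [(12, 1), (29, 1), (37, 1), (48, 1), (50, 1), (56, 12), (58, 12), (65, 12), (77, 1)],
  [(13, 1), (28, 1), (41, 1), (44, 1), (50, 1), (56, 12), (58, 12), (65, 4), (74, 1)],
  [(3, 1), (18, 1), (24, 1), (37, 1), (43, 1), (48, 1), (56, 12), (58, 12), (61, 1), (63, 1), (65, 3), (68, 12), (72, 12), (75, 1), (77, 1)],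
  [(4, 1), (19, 1), (23, 1), (41, 1), (43, 1), (44, 1), (56, 12), (58, 12), (60, 1), (61, 1), (65, 8), (69, 12), (70, 12), (74, 1), (75, 1)],
  [(16, 1), (26, 1), (43, 1), (44, 1), (48, 1), (56, 12), (58, 12), (65, 4), (75, 1)],
  [(11, 12)],
  [(6, 1), (29, 1), (37, 1), (48, 1), (50, 1), (56, 12), (58, 12), (65, 12), (77, 1)],
  [(7, 1), (28, 1), (41, 1), (44, 1), (50, 1), (56, 12), (58, 12), (65, 4), (74, 1)],
  [(21, 1), (44, 1), (48, 1), (50, 1), (56, 12), (58, 12), (65, 9)],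
  [(15, 12)],
  [(10, 1), (26, 1), (43, 1), (44, 1), (48, 1), (56, 12), (58, 12), (65, 4), (75, 1)],
  [(17, 12)],
  [(18, 12)],
  [(19, 12)],
  [(20, 12)],
  [(14, 1), (44, 1), (48, 1), (50, 1), (56, 12), (58, 12), (65, 9)],
  [(22, 12)],
  [(23, 12)],
  [(24, 12)],
  [(31, 1), (63, 1), (65, 11), (72, 12), (73, 12), (77, 1)],
  [(26, 12)],
  [(34, 1), (60, 1), (65, 7), (67, 12), (69, 12), (74, 1), (76, 1)],
  [(28, 12)],
  [(29, 12)],
  [(36, 1), (61, 1), (65, 7), (68, 12), (70, 12), (75, 1)],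
  [(25, 1), (63, 1), (65, 11), (72, 12), (73, 12), (77, 1)],
  [(38, 1), (65, 2)],
  [(40, 1), (65, 6)],
  [(27, 1), (60, 1), (65, 7), (67, 12), (69, 12), (74, 1), (76, 1)],
  [(42, 1), (65, 6)],
  [(30, 1), (61, 1), (65, 7), (68, 12), (70, 12), (75, 1)],
  [(37, 12)],
  [(32, 1), (65, 2)],
  [(46, 1), (65, 8)],
  [(33, 1), (65, 6)],
  [(41, 12)],
  [(35, 1), (65, 6)],
  [(43, 12)],
  [(44, 12)],
  [(52, 1), (65, 3)],
  [(39, 1), (65, 8)],
  [(54, 1), (65, 12)],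
  [(48, 12)],
  [(53, 1), (65, 12)],
  [(50, 12)],
  [(59, 1), (65, 10)],
  [(45, 1), (65, 3)],
  [(49, 1), (65, 12)],
  [(47, 1), (65, 12)],
  [(64, 1), (65, 1)],
  [(56, 12)],
  [(62, 1), (65, 1)],
  [(58, 12)],
  [(51, 1), (65, 10)],
  [(60, 12)],
  [(61, 12)],
  [(57, 1), (65, 1)],
  [(63, 12)],
  [(55, 1), (65, 1)],
  [(65, 12)],
  [(65, 12), (71, 1)],
  [(67, 12)],
  [(68, 12)],
  [(69, 12)],
  [(70, 12)],
  [(65, 12), (66, 1)],
  [(72, 12)],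
  [(73, 12)],
  [(74, 12)],
  [(75, 12)],
  [(76, 12)],
  [(77, 12)]]

def g4 : List (List (Nat × Nat)) := [
  [(0, 1), (2, 12), (3, 12), (11, 1), (17, 1), (27, 12), (31, 1), (36, 1), (45, 12), (49, 12), (64, 1), (66, 12), (67, 1), (69, 1), (70, 12), (71, 6), (73, 12), (74, 11), (76, 7)],
  [(1, 1), (5, 12), (6, 12), (11, 1), (22, 1), (27, 12), (42, 1), (49, 12), (64, 1), (69, 1), (70, 12), (71, 5), (73, 12), (74, 12), (76, 7)],
  [(2, 12)],
  [(3, 12)],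
  [(4, 1), (9, 12), (10, 12), (17, 1), (19, 1), (27, 12), (38, 1), (45, 12), (64, 1), (67, 1), (70, 12), (71, 10), (73, 12), (74, 12), (76, 3)],
  [(5, 12)],
  [(6, 12)],
  [(7, 1), (13, 12), (14, 12), (19, 1), (22, 1), (27, 12), (64, 1), (70, 12), (71, 2), (73, 12), (76, 11)],
  [(15, 1), (31, 12), (36, 12), (37, 1), (43, 1), (58, 12), (64, 12), (66, 1), (70, 1), (71, 8), (73, 1), (74, 1), (76, 5)],
  [(9, 12)],
  [(10, 12)],
  [(11, 12)],
  [(20, 1), (42, 12), (50, 1), (58, 12), (64, 12), (70, 1), (71, 4), (74, 1), (76, 9), (77, 1)],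
  [(13, 12)],
  [(14, 12)],
  [(8, 1), (31, 12), (36, 12), (37, 1), (43, 1), (58, 12), (64, 12), (66, 1), (70, 1), (71, 8), (73, 1), (74, 1), (76, 5)],
  [(23, 1), (38, 12), (44, 1), (64, 12), (73, 1), (74, 1), (75, 1), (76, 1)],
  [(17, 12)],
  [(25, 1), (49, 12), (57, 1), (66, 12), (71, 1), (73, 12), (76, 12), (77, 1)],
  [(19, 12)],
  [(12, 1), (42, 12), (50, 1), (58, 12), (64, 12), (70, 1), (71, 4), (74, 1), (76, 9), (77, 1)],
  [(28, 1), (60, 1), (64, 12), (67, 12), (69, 12), (71, 7), (74, 2), (75, 1), (76, 7), (77, 1)],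
  [(22, 12)],
  [(16, 1), (38, 12), (44, 1), (64, 12), (73, 1), (74, 1), (75, 1), (76, 1)],
  [(30, 1), (45, 12), (51, 1), (70, 12), (71, 1), (75, 1)],
  [(18, 1), (49, 12), (57, 1), (66, 12), (71, 1), (73, 12), (76, 12), (77, 1)],
  [(32, 1), (60, 1), (67, 12), (69, 12), (71, 2), (73, 12), (74, 1), (76, 12), (77, 1)],
  [(27, 12)],
  [(21, 1), (60, 1), (64, 12), (67, 12), (69, 12), (71, 7), (74, 2), (75, 1), (76, 7), (77, 1)],
  [(35, 1), (60, 1), (67, 12), (69, 12), (70, 12), (71, 6), (74, 1), (75, 1), (76, 8)],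
  [(24, 1), (45, 12), (51, 1), (70, 12), (71, 1), (75, 1)],
  [(31, 12)],
  [(26, 1), (60, 1), (67, 12), (69, 12), (71, 2), (73, 12), (74, 1), (76, 12), (77, 1)],
  [(39, 1), (60, 1), (67, 12), (69, 12), (71, 1), (74, 1)],
  [(41, 1), (71, 7), (76, 6)],
  [(29, 1), (60, 1), (67, 12), (69, 12), (70, 12), (71, 6), (74, 1), (75, 1), (76, 8)],
  [(36, 12)],
  [(37, 12)],
  [(38, 12)],
  [(33, 1), (60, 1), (67, 12), (69, 12), (71, 1), (74, 1)],
  [(47, 1), (71, 5), (76, 8)],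
  [(34, 1), (71, 7), (76, 6)],
  [(42, 12)],
  [(43, 12)],
  [(44, 12)],
  [(45, 12)],
  [(54, 1), (60, 12), (67, 1), (69, 1), (71, 7), (74, 12), (76, 5)],
  [(40, 1), (71, 5), (76, 8)],
  [(55, 1), (71, 1), (76, 12)],
  [(49, 12)],
  [(50, 12)],
  [(51, 12)],
  [(60, 12), (61, 1), (69, 1), (71, 3), (76, 9)],
  [(60, 12), (63, 1), (67, 1), (71, 12), (76, 1)],
  [(46, 1), (60, 12), (67, 1), (69, 1), (71, 7), (74, 12), (76, 5)],
  [(48, 1), (71, 1), (76, 12)],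
  [(65, 1), (71, 12), (76, 1)],
  [(57, 12)],
  [(58, 12)],
  [(67, 12), (68, 1), (71, 10), (74, 1), (76, 3)],
  [(60, 12)],
  [(52, 1), (60, 12), (69, 1), (71, 3), (76, 9)],
  [(69, 12), (71, 1), (72, 1), (74, 1), (76, 12)],
  [(53, 1), (60, 12), (67, 1), (71, 12), (76, 1)],
  [(64, 12)],
  [(56, 1), (71, 12), (76, 1)],
  [(66, 12)],
  [(67, 12)],
  [(59, 1), (67, 12), (71, 10), (74, 1), (76, 3)],
  [(69, 12)],
  [(70, 12)],
  [(71, 12)],
  [(62, 1), (69, 12), (71, 1), (74, 1), (76, 12)],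
  [(73, 12)],
  [(74, 12)],
  [(75, 12)],
  [(76, 12)],
  [(77, 12)]]

def g5 : List (List (Nat × Nat)) := [
  [(3, 1), (15, 1), (25, 12), (30, 12), (37, 1), (39, 1), (43, 1), (51, 12), (52, 12), (53, 12), (57, 12), (58, 12), (59, 1), (60, 2), (62, 1), (66, 1), (67, 12), (69, 12), (76, 1)],
  [(6, 1), (20, 1), (25, 12), (35, 12), (37, 1), (39, 1), (50, 1), (51, 12), (52, 12), (57, 12), (58, 12), (59, 1), (60, 1), (66, 1), (67, 12)],
  [(8, 1), (31, 12), (36, 12), (37, 1), (43, 1), (46, 1), (52, 12), (53, 12), (58, 12), (60, 1), (66, 1)],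
  [(0, 1), (15, 1), (25, 12), (30, 12), (37, 1), (39, 1), (43, 1), (51, 12), (52, 12), (53, 12), (57, 12), (58, 12), (59, 1), (60, 2), (62, 1), (66, 1), (67, 12), (69, 12), (76, 1)],
  [(10, 1), (23, 1), (30, 12), (32, 12), (39, 1), (43, 1), (44, 1), (51, 12), (53, 12), (57, 12), (58, 12), (60, 1), (62, 1), (66, 1), (69, 12)],
  [(12, 1), (31, 12), (37, 1), (42, 12), (46, 1), (50, 1), (52, 12), (58, 12), (62, 12), (69, 1), (71, 1), (76, 12)],
  [(1, 1), (20, 1), (25, 12), (35, 12), (37, 1), (39, 1), (50, 1), (51, 12), (52, 12), (57, 12), (58, 12), (59, 1), (60, 1), (66, 1), (67, 12)],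
  [(14, 1), (28, 1), (32, 12), (35, 12), (39, 1), (44, 1), (50, 1), (51, 12), (57, 12), (58, 12), (66, 1)],
  [(2, 1), (31, 12), (36, 12), (37, 1), (43, 1), (46, 1), (52, 12), (53, 12), (58, 12), (60, 1), (66, 1)],
  [(16, 1), (36, 12), (38, 12), (43, 1), (44, 1), (46, 1), (53, 12), (58, 12), (59, 12), (66, 1), (67, 1)],
  [(4, 1), (23, 1), (30, 12), (32, 12), (39, 1), (43, 1), (44, 1), (51, 12), (53, 12), (57, 12), (58, 12), (60, 1), (62, 1), (66, 1), (69, 12)],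
  [(18, 1), (49, 12), (53, 1), (57, 1), (60, 12), (62, 12), (66, 12), (69, 1), (71, 1), (76, 12)],
  [(5, 1), (31, 12), (37, 1), (42, 12), (46, 1), (50, 1), (52, 12), (58, 12), (62, 12), (69, 1), (71, 1), (76, 12)],
  [(21, 1), (38, 12), (42, 12), (44, 1), (46, 1), (50, 1), (58, 12), (59, 12), (62, 12), (71, 1), (74, 1)],
  [(7, 1), (28, 1), (32, 12), (35, 12), (39, 1), (44, 1), (50, 1), (51, 12), (57, 12), (58, 12), (66, 1)],
  [(15, 12)],
  [(9, 1), (36, 12), (38, 12), (43, 1), (44, 1), (46, 1), (53, 12), (58, 12), (59, 12), (66, 1), (67, 1)],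
  [(24, 1), (45, 12), (51, 1), (52, 1), (59, 12), (60, 12), (67, 1)],
  [(11, 1), (49, 12), (53, 1), (57, 1), (60, 12), (62, 12), (66, 12), (69, 1), (71, 1), (76, 12)],
  [(26, 1), (49, 12), (53, 1), (57, 1), (62, 12), (66, 12), (67, 12), (71, 1), (74, 1)],
  [(20, 12)],
  [(13, 1), (38, 12), (42, 12), (44, 1), (46, 1), (50, 1), (58, 12), (59, 12), (62, 12), (71, 1), (74, 1)],
  [(29, 1), (45, 12), (51, 1), (52, 1), (59, 12), (69, 12), (74, 1), (76, 1)],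
  [(23, 12)],
  [(17, 1), (45, 12), (51, 1), (52, 1), (59, 12), (60, 12), (67, 1)],
  [(25, 12)],
  [(19, 1), (49, 12), (53, 1), (57, 1), (62, 12), (66, 12), (67, 12), (71, 1), (74, 1)],
  [(33, 1), (60, 1), (67, 12), (69, 12), (74, 1), (76, 1)],
  [(28, 12)],
  [(22, 1), (45, 12), (51, 1), (52, 1), (59, 12), (69, 12), (74, 1), (76, 1)],
  [(30, 12)],
  [(31, 12)],
  [(32, 12)],
  [(27, 1), (60, 1), (67, 12), (69, 12), (74, 1), (76, 1)],
  [(40, 1)],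
  [(35, 12)],
  [(36, 12)],
  [(37, 12)],
  [(38, 12)],
  [(39, 12)],
  [(34, 1)],
  [(48, 1)],
  [(42, 12)],
  [(43, 12)],
  [(44, 12)],
  [(45, 12)],
  [(46, 12)],
  [(55, 1)],
  [(41, 1)],
  [(49, 12)],
  [(50, 12)],
  [(51, 12)],
  [(52, 12)],
  [(53, 12)],
  [(64, 1)],
  [(47, 1)],
  [(56, 1), (65, 12)],
  [(57, 12)],
  [(58, 12)],
  [(59, 12)],
  [(60, 12)],
  [(70, 1)],
  [(62, 12)],
  [(73, 1)],
  [(54, 1)],
  [(65, 12)],
  [(66, 12)],
  [(67, 12)],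
  [(75, 1)],
  [(69, 12)],
  [(61, 1)],
  [(71, 12)],
  [(77, 1)],
  [(63, 1)],
  [(74, 12)],
  [(68, 1)],
  [(76, 12)],
  [(72, 1)]]

def g6 : List (List (Nat × Nat)) := [
  [(0, 1), (3, 12), (15, 1), (25, 12), (30, 12), (31, 1), (36, 1), (39, 1), (45, 12), (49, 12), (54, 12), (60, 1), (61, 1), (63, 1), (64, 11), (66, 12), (70, 9), (71, 1), (73, 8), (75, 12), (77, 1)],
  [(1, 1), (6, 12), (20, 1), (25, 12), (35, 12), (39, 1), (42, 1), (49, 12), (52, 12), (54, 12), (59, 1), (60, 1), (61, 1), (63, 1), (64, 3), (67, 12), (68, 12), (70, 2), (73, 10), (74, 1), (75, 3), (77, 12)],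
  [(2, 1), (8, 12), (15, 1), (46, 1), (52, 12), (53, 12), (54, 12), (60, 1), (61, 1), (63, 1), (64, 11), (70, 2), (73, 2), (75, 5), (77, 11)],
  [(3, 12), (64, 3), (70, 2), (73, 2), (75, 9), (77, 8)],
  [(4, 1), (10, 12), (23, 1), (30, 12), (32, 12), (38, 1), (39, 1), (45, 12), (53, 12), (54, 12), (60, 1), (61, 1), (62, 1), (63, 1), (64, 8), (69, 12), (70, 5), (72, 12), (73, 2), (74, 1), (75, 7), (77, 8)],
  [(5, 1), (12, 12), (20, 1), (31, 12), (37, 1), (46, 1), (52, 12), (53, 12), (54, 12), (59, 1), (60, 1), (61, 1), (63, 1), (64, 3), (67, 12), (68, 12), (70, 10), (73, 5), (74, 1), (75, 3), (77, 8)],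
  [(6, 12), (64, 12), (70, 3), (73, 1), (77, 9)],
  [(7, 1), (14, 12), (28, 1), (32, 12), (35, 12), (39, 1), (54, 12), (61, 1), (63, 1), (64, 4), (68, 12), (70, 9), (72, 12), (73, 9), (74, 1), (75, 11), (77, 1)],
  [(8, 12), (64, 3), (70, 10), (73, 10), (75, 5), (77, 9)],
  [(9, 1), (16, 12), (23, 1), (36, 12), (43, 1), (46, 1), (52, 12), (53, 12), (54, 12), (58, 12), (60, 1), (61, 1), (62, 1), (63, 1), (64, 8), (66, 1), (69, 12), (71, 12), (72, 12), (73, 5), (74, 1), (77, 6)],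
  [(10, 12), (64, 4), (70, 9), (73, 11), (77, 4)],
  [(11, 1), (18, 12), (25, 1), (31, 12), (37, 1), (73, 8), (75, 2), (77, 5)],
  [(12, 12), (64, 12), (70, 1), (73, 5), (75, 10), (77, 1)],
  [(13, 1), (21, 12), (28, 1), (38, 12), (42, 12), (44, 1), (46, 1), (50, 1), (54, 12), (58, 12), (64, 4), (70, 10), (73, 9), (74, 1), (75, 10), (77, 2)],
  [(14, 12), (64, 9), (70, 4), (73, 4), (75, 8), (77, 11)],
  [(15, 12), (75, 5), (77, 11)],
  [(16, 12), (64, 4), (70, 10), (73, 9), (75, 10), (77, 6)],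
  [(17, 1), (24, 12), (30, 1), (36, 12), (43, 1), (58, 12), (66, 1), (70, 8), (71, 12), (77, 7)],
  [(18, 12), (73, 4), (75, 5), (77, 9)],
  [(19, 1), (26, 12), (32, 1), (38, 12), (44, 1), (49, 12), (53, 1), (57, 1), (62, 12), (63, 12), (66, 12), (70, 10), (71, 1), (72, 1), (75, 2)],
  [(20, 12), (73, 1), (75, 11), (77, 10)],
  [(21, 12), (64, 9), (70, 3), (73, 11), (75, 5), (77, 4)],
  [(22, 1), (29, 12), (35, 1), (42, 12), (45, 12), (50, 1), (51, 1), (52, 1), (58, 12), (59, 12), (61, 12), (68, 1), (70, 1), (73, 1), (75, 1), (77, 6)],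
  [(23, 12), (70, 10), (75, 5), (77, 12)],
  [(24, 12), (70, 1), (75, 12), (77, 12)],
  [(25, 12), (64, 11), (70, 2), (73, 3), (75, 6), (77, 10)],
  [(26, 12), (70, 6), (73, 7), (75, 8), (77, 6)],
  [(27, 1), (33, 12), (39, 1), (45, 12), (49, 12), (51, 1), (57, 1), (60, 1), (64, 7), (66, 12), (67, 12), (69, 12), (70, 3), (73, 7), (74, 1), (75, 11), (76, 1), (77, 6)],
  [(28, 12), (70, 6), (73, 2), (75, 8), (77, 10)],
  [(29, 12), (70, 12), (73, 6), (77, 6)],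
  [(30, 12), (64, 7), (70, 3), (73, 6), (75, 8), (77, 8)],
  [(31, 12), (64, 11), (73, 2), (75, 9), (77, 11)],
  [(32, 12), (64, 2), (70, 8), (75, 4)],
  [(33, 12), (64, 6), (75, 5)],
  [(34, 1), (40, 12), (46, 1), (52, 12), (53, 12), (59, 1), (60, 1), (62, 1), (64, 7), (67, 12), (69, 12), (70, 6), (71, 12), (73, 6), (74, 1), (75, 11), (76, 1), (77, 7)],
  [(35, 12), (64, 6), (73, 8), (75, 2), (77, 6)],
  [(36, 12), (64, 7), (70, 6), (75, 8), (77, 12)],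
  [(37, 12), (70, 11), (75, 4)],
  [(38, 12), (64, 2), (70, 3), (73, 11), (75, 7), (77, 2)],
  [(39, 12), (64, 8), (70, 2), (73, 6), (75, 9), (77, 7)],
  [(40, 12), (64, 6), (70, 7), (73, 7), (75, 2), (77, 6)],
  [(41, 1), (47, 12), (54, 1), (61, 12), (63, 12), (68, 1), (72, 1), (75, 1)],
  [(42, 12), (64, 6), (70, 7), (73, 12), (75, 5)],
  [(43, 12), (73, 7), (75, 12), (77, 1)],
  [(44, 12), (70, 10), (75, 4)],
  [(45, 12), (64, 3), (70, 2), (73, 10), (75, 6), (77, 3)],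
  [(46, 12), (64, 8), (70, 3), (73, 12), (75, 9), (77, 1)],
  [(47, 12), (64, 12), (70, 1), (73, 1), (75, 1), (77, 12)],
  [(56, 1), (75, 12)],
  [(49, 12), (64, 12), (70, 1), (73, 6)],
  [(50, 12), (73, 1), (75, 1), (77, 7)],
  [(51, 12), (64, 10), (73, 3), (75, 9), (77, 10)],
  [(52, 12), (64, 3), (70, 8), (75, 4)],
  [(53, 12), (64, 12), (73, 8), (75, 1), (77, 12)],
  [(54, 12), (64, 12)],
  [(64, 1), (65, 1), (70, 12), (73, 12), (75, 12), (77, 1)],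
  [(48, 1), (75, 1)],
  [(57, 12), (64, 1), (70, 12), (77, 6)],
  [(58, 12), (73, 12), (75, 12)],
  [(59, 12), (64, 10), (70, 3), (75, 7)],
  [(60, 12), (70, 12), (73, 3), (75, 12)],
  [(61, 12), (70, 12)],
  [(62, 12), (64, 1), (73, 12), (75, 12), (77, 8)],
  [(63, 12), (73, 12)],
  [(64, 1)],
  [(55, 1), (64, 12), (70, 1), (73, 1), (75, 1), (77, 12)],
  [(64, 12), (66, 12), (70, 1)],
  [(67, 12), (73, 10)],
  [(68, 12), (75, 12)],
  [(69, 12), (70, 1), (75, 1), (77, 3)],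
  [(70, 1)],
  [(64, 12), (71, 12), (73, 1), (75, 1), (77, 12)],
  [(72, 12), (77, 12)],
  [(73, 1)],
  [(74, 12), (77, 10)],
  [(75, 1)],
  [(70, 12), (75, 12), (76, 12)],
  [(77, 1)]]

def g7 : List (List (Nat × Nat)) := [
  [(0, 1), (2, 12), (4, 12), (11, 1), (15, 1), (25, 12), (34, 1), (36, 1), (47, 12), (49, 12), (59, 1), (65, 12), (66, 12), (67, 12), (68, 12), (72, 1), (73, 1), (77, 11)],
  [(1, 1), (5, 12), (7, 12), (11, 1), (20, 1), (25, 12), (42, 1), (49, 12), (59, 1), (67, 12), (68, 12), (72, 1), (77, 12)],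
  [(2, 12)],
  [(3, 1), (8, 12), (10, 12), (15, 1), (18, 1), (25, 12), (40, 1), (47, 12), (59, 1), (67, 12), (68, 12), (73, 1), (77, 12)],
  [(4, 12)],
  [(5, 12)],
  [(6, 1), (12, 12), (14, 12), (18, 1), (20, 1), (25, 12), (59, 1), (67, 12), (68, 12)],
  [(7, 12)],
  [(8, 12)],
  [(17, 1), (34, 12), (36, 12), (41, 1), (43, 1), (56, 12), (58, 12), (59, 12), (65, 1), (66, 1), (67, 1), (68, 1), (77, 1)],
  [(10, 12)],
  [(11, 12)],
  [(12, 12)],
  [(22, 1), (42, 12), (50, 1), (58, 12), (59, 12), (68, 1), (74, 1), (77, 1)],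
  [(14, 12)],
  [(15, 12)],
  [(24, 1), (40, 12), (48, 1), (56, 12), (59, 12), (67, 1), (75, 1), (77, 1)],
  [(9, 1), (34, 12), (36, 12), (41, 1), (43, 1), (56, 12), (58, 12), (59, 12), (65, 1), (66, 1), (67, 1), (68, 1), (77, 1)],
  [(18, 12)],
  [(27, 1), (49, 12), (57, 1), (66, 12), (67, 12), (74, 1)],
  [(20, 12)],
  [(29, 1), (59, 12), (63, 1), (72, 12), (73, 12), (74, 1), (75, 1), (77, 2)],
  [(13, 1), (42, 12), (50, 1), (58, 12), (59, 12), (68, 1), (74, 1), (77, 1)],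
  [(30, 1), (47, 12), (55, 1), (65, 12), (68, 12), (75, 1)],
  [(16, 1), (40, 12), (48, 1), (56, 12), (59, 12), (67, 1), (75, 1), (77, 1)],
  [(25, 12)],
  [(33, 1), (63, 1), (67, 12), (72, 12), (73, 12), (74, 1), (77, 1)],
  [(19, 1), (49, 12), (57, 1), (66, 12), (67, 12), (74, 1)],
  [(35, 1), (63, 1), (68, 12), (72, 12), (73, 12), (75, 1), (77, 1)],
  [(21, 1), (59, 12), (63, 1), (72, 12), (73, 12), (74, 1), (75, 1), (77, 2)],
  [(23, 1), (47, 12), (55, 1), (65, 12), (68, 12), (75, 1)],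
  [(37, 1)],
  [(39, 1), (63, 1), (72, 12), (73, 12), (77, 1)],
  [(26, 1), (63, 1), (67, 12), (72, 12), (73, 12), (74, 1), (77, 1)],
  [(34, 12)],
  [(28, 1), (63, 1), (68, 12), (72, 12), (73, 12), (75, 1), (77, 1)],
  [(36, 12)],
  [(31, 1)],
  [(45, 1)],
  [(32, 1), (63, 1), (72, 12), (73, 12), (77, 1)],
  [(40, 12)],
  [(41, 12)],
  [(42, 12)],
  [(43, 12)],
  [(51, 1)],
  [(38, 1)],
  [(52, 1), (63, 12), (72, 1), (73, 1), (77, 12)],
  [(47, 12)],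
  [(48, 12)],
  [(49, 12)],
  [(50, 12)],
  [(44, 1)],
  [(46, 1), (63, 12), (72, 1), (73, 1), (77, 12)],
  [(60, 1), (63, 12), (73, 1)],
  [(61, 1), (63, 12), (72, 1)],
  [(55, 12)],
  [(56, 12)],
  [(57, 12)],
  [(58, 12)],
  [(59, 12)],
  [(53, 1), (63, 12), (73, 1)],
  [(54, 1), (63, 12), (72, 1)],
  [(69, 1), (72, 12), (77, 1)],
  [(63, 12)],
  [(70, 1), (73, 12), (77, 1)],
  [(65, 12)],
  [(66, 12)],
  [(67, 12)],
  [(68, 12)],
  [(62, 1), (72, 12), (77, 1)],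
  [(64, 1), (73, 12), (77, 1)],
  [(76, 1)],
  [(72, 12)],
  [(73, 12)],
  [(74, 12)],
  [(75, 12)],
  [(71, 1)],
  [(77, 12)]]

def g8 : List (List (Nat × Nat)) := [
  [(4, 1), (17, 1), (27, 12), (30, 12), (39, 1), (41, 1), (43, 1), (53, 12), (54, 12), (55, 12), (56, 12), (57, 12), (58, 12), (62, 1), (63, 2), (64, 1), (65, 1), (66, 1), (72, 12), (73, 12), (76, 1)],
  [(7, 1), (22, 1), (27, 12), (35, 12), (39, 1), (41, 1), (50, 1), (54, 12), (55, 12), (56, 12), (57, 12), (58, 12), (63, 1), (64, 1), (65, 1), (66, 1), (73, 12), (76, 10)],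
  [(9, 1), (34, 12), (36, 12), (41, 1), (43, 1), (46, 1), (53, 12), (54, 12), (56, 12), (58, 12), (63, 1), (65, 1), (66, 1), (76, 1)],
  [(10, 1), (24, 1), (30, 12), (33, 12), (39, 1), (43, 1), (48, 1), (53, 12), (55, 12), (56, 12), (57, 12), (58, 12), (62, 1), (63, 1), (65, 1), (66, 1), (72, 12), (76, 4)],
  [(0, 1), (17, 1), (27, 12), (30, 12), (39, 1), (41, 1), (43, 1), (53, 12), (54, 12), (55, 12), (56, 12), (57, 12), (58, 12), (62, 1), (63, 2), (64, 1), (65, 1), (66, 1), (72, 12), (73, 12), (76, 10)],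
  [(13, 1), (34, 12), (41, 1), (42, 12), (46, 1), (50, 1), (54, 12), (56, 12), (58, 12), (62, 12), (65, 1), (71, 1), (72, 1), (76, 11)],
  [(14, 1), (29, 1), (33, 12), (35, 12), (39, 1), (48, 1), (50, 1), (55, 12), (56, 12), (57, 12), (58, 12), (65, 1), (66, 1), (76, 9)],
  [(1, 1), (22, 1), (27, 12), (35, 12), (39, 1), (41, 1), (50, 1), (54, 12), (55, 12), (56, 12), (57, 12), (58, 12), (63, 1), (64, 1), (65, 1), (66, 1), (73, 12), (76, 8)],
  [(16, 1), (36, 12), (40, 12), (43, 1), (46, 1), (48, 1), (53, 12), (56, 12), (58, 12), (64, 12), (66, 1), (73, 1), (76, 9)],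
  [(2, 1), (34, 12), (36, 12), (41, 1), (43, 1), (46, 1), (53, 12), (54, 12), (56, 12), (58, 12), (63, 1), (65, 1), (66, 1), (76, 8)],
  [(3, 1), (24, 1), (30, 12), (33, 12), (39, 1), (43, 1), (48, 1), (53, 12), (55, 12), (56, 12), (57, 12), (58, 12), (62, 1), (63, 1), (65, 1), (66, 1), (72, 12), (76, 6)],
  [(19, 1), (49, 12), (53, 1), (57, 1), (62, 12), (63, 12), (66, 12), (71, 1), (72, 1), (76, 5)],
  [(21, 1), (40, 12), (42, 12), (46, 1), (48, 1), (50, 1), (56, 12), (58, 12), (62, 12), (64, 12), (71, 1), (76, 8), (77, 1)],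
  [(5, 1), (34, 12), (41, 1), (42, 12), (46, 1), (50, 1), (54, 12), (56, 12), (58, 12), (62, 12), (65, 1), (71, 1), (72, 1), (76, 4)],
  [(6, 1), (29, 1), (33, 12), (35, 12), (39, 1), (48, 1), (50, 1), (55, 12), (56, 12), (57, 12), (58, 12), (65, 1), (66, 1)],
  [(23, 1), (47, 12), (54, 1), (55, 1), (63, 12), (64, 12), (65, 12), (73, 1), (76, 2)],
  [(8, 1), (36, 12), (40, 12), (43, 1), (46, 1), (48, 1), (53, 12), (56, 12), (58, 12), (64, 12), (66, 1), (73, 1), (76, 4)],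
  [(17, 12), (76, 5)],
  [(26, 1), (49, 12), (53, 1), (57, 1), (62, 12), (66, 12), (71, 1), (73, 12), (76, 11), (77, 1)],
  [(11, 1), (49, 12), (53, 1), (57, 1), (62, 12), (63, 12), (66, 12), (71, 1), (72, 1), (76, 8)],
  [(28, 1), (47, 12), (54, 1), (55, 1), (64, 12), (65, 12), (72, 12), (76, 5), (77, 1)],
  [(12, 1), (40, 12), (42, 12), (46, 1), (48, 1), (50, 1), (56, 12), (58, 12), (62, 12), (64, 12), (71, 1), (76, 11), (77, 1)],
  [(22, 12), (76, 11)],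
  [(15, 1), (47, 12), (54, 1), (55, 1), (63, 12), (64, 12), (65, 12), (73, 1), (76, 5)],
  [(24, 12)],
  [(32, 1), (63, 1), (72, 12), (73, 12), (76, 2), (77, 1)],
  [(18, 1), (49, 12), (53, 1), (57, 1), (62, 12), (66, 12), (71, 1), (73, 12), (76, 2), (77, 1)],
  [(27, 12), (76, 12)],
  [(20, 1), (47, 12), (54, 1), (55, 1), (64, 12), (65, 12), (72, 12), (76, 2), (77, 1)],
  [(29, 12), (76, 1)],
  [(30, 12), (76, 2)],
  [(38, 1), (76, 7)],
  [(25, 1), (63, 1), (72, 12), (73, 12), (76, 11), (77, 1)],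
  [(33, 12), (76, 8)],
  [(34, 12), (76, 9)],
  [(35, 12), (76, 11)],
  [(36, 12), (76, 12)],
  [(44, 1), (76, 6)],
  [(31, 1), (76, 6)],
  [(39, 12), (76, 2)],
  [(40, 12), (76, 4)],
  [(41, 12), (76, 12)],
  [(42, 12), (76, 1)],
  [(43, 12), (76, 1)],
  [(37, 1), (76, 7)],
  [(51, 1), (76, 7)],
  [(46, 12), (76, 1)],
  [(47, 12), (76, 11)],
  [(48, 12), (76, 1)],
  [(49, 12), (76, 12)],
  [(50, 12), (76, 12)],
  [(45, 1), (76, 6)],
  [(59, 1), (76, 12)],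
  [(53, 12), (76, 12)],
  [(54, 12)],
  [(55, 12), (76, 2)],
  [(56, 12), (76, 12)],
  [(57, 12), (76, 1)],
  [(58, 12), (76, 1)],
  [(52, 1), (76, 1)],
  [(67, 1), (76, 1)],
  [(68, 1)],
  [(62, 12), (76, 1)],
  [(63, 12)],
  [(64, 12)],
  [(65, 12), (76, 11)],
  [(66, 12), (76, 12)],
  [(60, 1), (76, 12)],
  [(61, 1)],
  [(74, 1), (76, 12)],
  [(75, 1)],
  [(71, 12), (76, 12)],
  [(72, 12)],
  [(73, 12)],
  [(69, 1), (76, 1)],
  [(70, 1)],
  [(76, 1)],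
  [(77, 12)]]

def gens : List (List (List (Nat × Nat))) := [g0, g1, g2, g3, g4, g5, g6, g7, g8]

end Cfsg.Agent.Fi22Rep78
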