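import Mathlib.Data.List.GetD
import Mathlib.Data.ZMod.Basic
import Mathlib.LinearAlgebra.Matrix.GeneralLinearGroup.Defs
import Mathlib.Tactic.Ring

/-!
Products of sparse matrices over GF(13), with each column of the running product packed
into one natural number (one 32-bit field per row).
-/

set_option autoImplicit false

namespace Cfsg.Agent.Fi22Rep78

/-- Pack the first `n` values of `f` into 32-bit fields. -/
def pk : ℕ → (ℕ → ℕ) → ℕ
  | 0, _ => 0
  | n + 1, f => f 0 + 2 ^ 32 * pk n (fun i => f (i + 1))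

theorem pk_add : ∀ (n : ℕ) (f g : ℕ → ℕ), pk n (fun i => f i + g i) = pk n f + pk n g
  | 0, _, _ => rfl
  | n + 1, f, g => by
    show f 0 + g 0 + 2 ^ 32 * pk n _ = _
    rw [pk_add n]
    simp only [pk]
    ring

theorem pk_smul : ∀ (n : ℕ) (c : ℕ) (f : ℕ → ℕ), pk n (fun i => c * f i) = c * pk n f
  | 0, _, _ => rfl
  | n + 1, c, f => by
    show c * f 0 + 2 ^ 32 * pk n _ = _
    rw [pk_smul n]
    simp only [pk]
    ring

theorem pk_congr : ∀ (n : ℕ) (f g : ℕ → ℕ), (∀ i < n, f i = g i) → pk n f = pk n g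
  | 0, _, _, _ => rfl
  | n + 1, f, g, h => by
    show f 0 + _ = g 0 + _
    rw [h 0 n.succ_pos, pk_congr n _ _ fun i hi => h (i + 1) (Nat.succ_lt_succ hi)]

theorem pk_zero : ∀ n : ℕ, pk n (fun _ => 0) = 0
  | 0 => rfl
  | n + 1 => by simp [pk, pk_zero n]

theorem pk_inj : ∀ (n : ℕ) (f g : ℕ → ℕ), (∀ i < n, f i < 2 ^ 32) → (∀ i < n, g i < 2 ^ 32) →
    pk n f = pk n g → ∀ i < n, f i = g i
  | 0, _, _, _, _, _, i, hi => absurd hi (Nat.not_lt_zero i)
  | n + 1, f, g, hf, hg, h, i, hi => by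
    have h0 := hf 0 n.succ_pos
    have h1 := hg 0 n.succ_pos
    simp only [pk] at h
    cases i with
    | zero => omega
    | succ i =>
      exact pk_inj n _ _ (fun k hk => hf (k + 1) (Nat.succ_lt_succ hk))
        (fun k hk => hg (k + 1) (Nat.succ_lt_succ hk)) (by omega) i (Nat.lt_of_succ_lt_succ hi)

/-- The mask of the low 12 bits of every field. -/
def mask (n : ℕ) : ℕ := pk n fun _ => 4095

/-- Reduce every field modulo 13 (valid for fields below `2 ^ 14`). -/
def red (M X : ℕ) : ℕ := X - 13 * (((X * 80660) >>> 20) &&& M)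

theorem land_split (a b : ℕ) :
    a &&& b = (a % 2 ^ 32 &&& b % 2 ^ 32) + 2 ^ 32 * (a / 2 ^ 32 &&& b / 2 ^ 32) := by
  rw [← Nat.and_mod_two_pow, ← Nat.and_div_two_pow]
  omega

theorem quot_pk : ∀ (n : ℕ) (f : ℕ → ℕ), (∀ i < n, f i < 2 ^ 14) →
    ((pk n f * 80660) >>> 20) &&& mask n = pk n (fun i => f i / 13)
  | 0, _, _ => by simp [pk, mask]
  | n + 1, f, h => by
    have ih := quot_pk n (fun i => f (i + 1)) fun i hi => h (i + 1) (Nat.succ_lt_succ hi)
    rw [Nat.shiftRight_eq_div_pow] at ih ⊢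
    have h0 := h 0 n.succ_pos
    simp only [pk, mask] at ih ⊢
    generalize pk n (fun i => f (i + 1)) = R at ih ⊢
    generalize pk n (fun _ => 4095) = K at ih ⊢
    rw [land_split, ← ih]
    obtain ⟨T, hT⟩ : ∃ T, T = R * 80660 := ⟨_, rfl⟩
    have e0 : (f 0 + 2 ^ 32 * R) * 80660 / 2 ^ 20 = f 0 * 80660 / 2 ^ 20 + 4096 * T := by
      rw [show (f 0 + 2 ^ 32 * R) * 80660 = f 0 * 80660 + 2 ^ 20 * (4096 * T) by rw [hT]; ring,
        Nat.add_mul_div_left _ _ (by norm_num : (0 : ℕ) < 2 ^ 20)]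
    obtain ⟨Q, hQ⟩ : ∃ Q, Q = f 0 / 13 := ⟨_, rfl⟩
    have eQ : f 0 * 80660 / 2 ^ 20 = Q := by
      apply Nat.div_eq_of_lt_le
      · omega
      · omega
    have hQ' : Q < 4096 := by omega
    have e1 : (Q + 4096 * T) / 2 ^ 32 = T / 2 ^ 20 := by omega
    have e2 : (4095 + 2 ^ 32 * K) / 2 ^ 32 = K := by omega
    have e3 : (4095 + 2 ^ 32 * K) % 2 ^ 32 = 2 ^ 12 - 1 := by omega
    have e4 : (Q + 4096 * T) % 2 ^ 32 % 2 ^ 12 = Q := by omega
    rw [e0, eQ, e1, e2, e3, Nat.and_two_pow_sub_one_eq_mod, e4, hT, hQ]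

theorem red_pk (n : ℕ) (f : ℕ → ℕ) (h : ∀ i < n, f i < 2 ^ 14) :
    red (mask n) (pk n f) = pk n (fun i => f i % 13) := by
  rw [red, quot_pk n f h]
  have e : pk n f = pk n (fun i => f i % 13) + 13 * pk n (fun i => f i / 13) := by
    rw [← pk_smul, ← pk_add]
    exact pk_congr n _ _ fun i _ => (Nat.mod_add_div (f i) 13).symm
  omega

variable {n : ℕ}

/-- The matrix whose `j`-th column has the listed entries. -/
def sparse (D : List (List (ℕ × ℕ))) : Matrix (Fin n) (Fin n) (ZMod 13) := fun k j =>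
  ((D.getD j.1 []).map fun e => if e.1 = k.1 then (e.2 : ZMod 13) else 0).sum

/-- One packed column of the product with a sparse column. -/
def comb (C : List ℕ) : List (ℕ × ℕ) → ℕ
  | [] => 0
  | e :: es => e.2 * C.getD e.1 0 + comb C es

/-- The packed columns of the product with a sparse matrix. -/
def step (M : ℕ) (C : List ℕ) (D : List (List (ℕ × ℕ))) : List ℕ :=
  D.map fun col => red M (comb C col)

/-- Every sparse column has length at most `n`, rows below `n` and entries below 13. -/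
def wellFormed (n : ℕ) (D : List (List (ℕ × ℕ))) : Bool :=
  Nat.beq D.length n && D.all fun col =>
    Nat.ble col.length n && col.all fun e => Nat.blt e.1 n && Nat.blt e.2 13

/-- The column `j` of `P` as numbers. -/
def colFun (P : Matrix (Fin n) (Fin n) (ZMod 13)) (j : Fin n) (i : ℕ) : ℕ :=
  if h : i < n then (P ⟨i, h⟩ j).val else 0

/-- `C` packs the columns of `P`. -/
def Packs (C : List ℕ) (P : Matrix (Fin n) (Fin n) (ZMod 13)) : Prop :=
  ∀ j : Fin n, C.getD j.1 0 = pk n (colFun P j)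

theorem colFun_lt (P : Matrix (Fin n) (Fin n) (ZMod 13)) (j : Fin n) (i : ℕ) :
    colFun P j i < 13 := by
  unfold colFun
  split
  · exact ZMod.val_lt _
  · norm_num

theorem comb_eq {C : List ℕ} {P : Matrix (Fin n) (Fin n) (ZMod 13)} (hC : Packs C P) :
    ∀ col : List (ℕ × ℕ), (∀ e ∈ col, e.1 < n ∧ e.2 < 13) →
      ∃ s : ℕ → ℕ, comb C col = pk n s ∧ (∀ i, s i ≤ col.length * 144) ∧
        ∀ i : Fin n, (s i.1 : ZMod 13) =
          ∑ k : Fin n, P i k * (col.map fun e => if e.1 = k.1 then (e.2 : ZMod 13) else 0).sum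
  | [], _ => ⟨fun _ => 0, (pk_zero n).symm, fun _ => Nat.zero_le _, fun i => by simp⟩
  | e :: es, h => by
    obtain ⟨s, h1, h2, h3⟩ := comb_eq hC es fun x hx => h x (List.mem_cons_of_mem _ hx)
    obtain ⟨hk, hc⟩ := h e List.mem_cons_self
    refine ⟨fun i => e.2 * colFun P ⟨e.1, hk⟩ i + s i, ?_, fun i => ?_, fun i => ?_⟩
    · show e.2 * C.getD e.1 0 + comb C es = _
      rw [pk_add, pk_smul, h1, hC ⟨e.1, hk⟩]
    · have := h2 i
      have := colFun_lt P ⟨e.1, hk⟩ i
      have : e.2 * colFun P ⟨e.1, hk⟩ i ≤ 144 := by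
        calc _ ≤ 12 * 12 := Nat.mul_le_mul (by omega) (by omega)
          _ = _ := by norm_num
      simp only [List.length_cons]
      omega
    · simp only [List.map_cons, List.sum_cons, mul_add, Finset.sum_add_distrib, Nat.cast_add,
        Nat.cast_mul, h3 i]
      congr 1
      rw [Finset.sum_eq_single (⟨e.1, hk⟩ : Fin n)]
      · rw [if_pos rfl, colFun, dif_pos i.2, ZMod.natCast_zmod_val, mul_comm]
      · intro k _ hne
        rw [if_neg fun hh => hne (Fin.ext hh.symm), mul_zero]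
      · intro hh
        exact absurd (Finset.mem_univ _) hh

theorem packs_step (hn : n ≤ 100) {C : List ℕ} {P : Matrix (Fin n) (Fin n) (ZMod 13)}
    (hC : Packs C P) {D : List (List (ℕ × ℕ))} (hD : wellFormed n D = true) :
    Packs (step (mask n) C D) (P * sparse D) := by
  simp only [wellFormed, Bool.and_eq_true, List.all_eq_true] at hD
  obtain ⟨hlen, hcols⟩ := hD
  have hlen' : D.length = n := Nat.eq_of_beq_eq_true hlen
  intro j
  have hj : j.1 < D.length := hlen'.symm ▸ j.2
  have hcol := hcols _ (List.getElem_mem hj)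
  obtain ⟨s, h1, h2, h3⟩ := comb_eq hC D[j.1] fun e he =>
    ⟨Nat.le_of_ble_eq_true (hcol.2 e he).1, Nat.le_of_ble_eq_true (hcol.2 e he).2⟩
  have hb : D[j.1].length ≤ n := Nat.le_of_ble_eq_true hcol.1
  rw [step, List.getD_eq_getElem _ _ (by simpa using hj), List.getElem_map, h1,
    red_pk n s fun i _ => by have := h2 i; omega]
  refine pk_congr n _ _ fun i hi => ?_
  rw [colFun, dif_pos hi, Matrix.mul_apply]
  simp only [sparse, List.getD_eq_getElem _ _ hj]
  rw [← h3 ⟨i, hi⟩, ZMod.val_natCast]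

/-- The packed identity matrix. -/
def idCols (n : ℕ) : List ℕ := (List.range n).map fun j => (2 ^ 32) ^ j

theorem pk_single : ∀ (n j : ℕ), j < n → pk n (fun i => if i = j then 1 else 0) = (2 ^ 32) ^ j
  | 0, _, h => absurd h (Nat.not_lt_zero _)
  | n + 1, 0, _ => by simp [pk, pk_zero]
  | n + 1, j + 1, h => by
    simp only [pk, if_neg (Nat.succ_ne_zero j).symm, Nat.add_right_cancel_iff]
    rw [pk_single n j (Nat.lt_of_succ_lt_succ h)]
    ring

theorem packs_one : Packs (idCols n) (1 : Matrix (Fin n) (Fin n) (ZMod 13)) := by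
  intro j
  rw [idCols, List.getD_eq_getElem _ _ (by simp), List.getElem_map, List.getElem_range,
    ← pk_single n j.1 j.2]
  refine pk_congr n _ _ fun i hi => ?_
  rw [colFun, dif_pos hi, Matrix.one_apply]
  by_cases h : i = j.1
  · rw [if_pos h, if_pos (Fin.ext h)]
    rfl
  · rw [if_neg h, if_neg fun hh => h (Fin.ext_iff.mp hh), ZMod.val_zero]

theorem packs_inj {C : List ℕ} {P Q : Matrix (Fin n) (Fin n) (ZMod 13)}
    (hP : Packs C P) (hQ : Packs C Q) : P = Q := by
  refine Matrix.ext fun i j => ZMod.val_injective 13 ?_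
  have := pk_inj n _ _ (fun k _ => (colFun_lt P j k).trans (by norm_num))
    (fun k _ => (colFun_lt Q j k).trans (by norm_num)) ((hP j).symm.trans (hQ j)) i.1 i.2
  rwa [colFun, dif_pos i.2, colFun, dif_pos i.2] at this

/-- Multiply the packed columns along a word. -/
def runWord (M : ℕ) (gs : List (List (List (ℕ × ℕ)))) : List ℕ → List ℕ → List ℕ
  | [], C => C
  | l :: ls, C => runWord M gs ls (step M C (gs.getD l []))

theorem packs_runWord (hn : n ≤ 100) {gs : List (List (List (ℕ × ℕ)))}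
    (hgs : ∀ D ∈ gs, wellFormed n D = true) :
    ∀ (W : List ℕ), (∀ l ∈ W, l < gs.length) → ∀ (C : List ℕ)
      (P : Matrix (Fin n) (Fin n) (ZMod 13)), Packs C P →
        Packs (runWord (mask n) gs W C) (P * (W.map fun l => sparse (gs.getD l [])).prod)
  | [], _, C, P, hC => by simpa [runWord] using hC
  | l :: ls, h, C, P, hC => by
    have hl := h l List.mem_cons_self
    have := packs_runWord hn hgs ls (fun x hx => h x (List.mem_cons_of_mem _ hx)) _ _
      (packs_step hn hC (hgs (gs.getD l []) (by rw [List.getD_eq_getElem _ _ hl]; exact List.getElem_mem hl)))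
    rw [Matrix.mul_assoc] at this
    simpa [runWord] using this

end Cfsg.Agent.Fi22Rep78
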