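import Cfsg.Agent.Fi22Rep78.Data
import Cfsg.Agent.Fi22Rep78.Packed
import Cfsg.Agent.SporB.Fi22.Main

/-!
The 78-dimensional representation of Fi22 over GF(13).
-/

set_option autoImplicit false
set_option maxRecDepth 100000

namespace Cfsg.Agent.Fi22Rep78

open Cfsg.Agent.CosetEnum

/-- The image of the letter `l`. -/
def mat (l : ℕ) : Matrix (Fin 78) (Fin 78) (ZMod 13) := sparse (gens.getD l [])

/-- The word `W` evaluates to the identity. -/
def trivWord (W : List ℕ) : Bool :=
  W.all (fun l => Nat.blt l gens.length) && (runWord (mask 78) gens W (idCols 78) == idCols 78)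

theorem gens_ok : gens.all (wellFormed 78) = true := by decide +kernel

theorem sq_ok : (List.range 9).all (fun l => trivWord [l, l]) = true := by decide +kernel

theorem rel_ok : CosetEnum.Fi22.pres.relWords.all trivWord = true := by decide +kernel

theorem first_ne : (runWord (mask 78) gens [0] (idCols 78) == idCols 78) = false := by
  decide +kernel

theorem prod_eq_one {W : List ℕ} (h : trivWord W = true) : (W.map mat).prod = 1 := by
  simp only [trivWord, Bool.and_eq_true, List.all_eq_true, beq_iff_eq] at h
  have h1 := packs_runWord (n := 78) (by norm_num) (fun D hD => List.all_eq_true.mp gens_ok D hD) W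
    (fun l hl => Nat.le_of_ble_eq_true (h.1 l hl)) _ _ packs_one
  rw [h.2, Matrix.one_mul] at h1
  exact packs_inj h1 packs_one

/-- The image of the letter `l` as a unit. -/
def letterUnit (l : ℕ) : GL (Fin 78) (ZMod 13) :=
  if h : l < 9 then
    have e : mat l * mat l = 1 := by
      simpa using prod_eq_one (List.all_eq_true.mp sq_ok l (List.mem_range.mpr h))
    ⟨mat l, mat l, e, e⟩
  else 1

/-- The images of the generators. -/
def genUnit : Cfsg.Spor.Fi22.Gen → GL (Fin 78) (ZMod 13) := fun x =>
  letterUnit (CosetEnum.Fi22.genList.idxOf x)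

theorem letter_eq : ∀ l < 9, letterVal CosetEnum.Fi22.genList genUnit l = letterUnit l := by
  intro l hl
  interval_cases l <;> rfl

theorem coe_evalWord : ∀ W : List ℕ, (∀ l ∈ W, l < 9) →
    ((evalWord (letterVal CosetEnum.Fi22.genList genUnit) W : GL (Fin 78) (ZMod 13)) :
      Matrix (Fin 78) (Fin 78) (ZMod 13)) = (W.map mat).prod
  | [], _ => rfl
  | l :: ls, h => by
    have hl := h l List.mem_cons_self
    rw [show evalWord (letterVal CosetEnum.Fi22.genList genUnit) (l :: ls) =
      letterVal CosetEnum.Fi22.genList genUnit l *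
        evalWord (letterVal CosetEnum.Fi22.genList genUnit) ls from rfl,
      Units.val_mul, coe_evalWord ls fun x hx => h x (List.mem_cons_of_mem _ hx), letter_eq l hl,
      List.map_cons, List.prod_cons, letterUnit, dif_pos hl]

/-- The representation. -/
noncomputable def rho : Cfsg.Spor.Fi22 →* GL (Fin 78) (ZMod 13) :=
  PresentedGroup.toGroup (f := genUnit) <| CosetEnum.Fi22.pres.kills genUnit fun W hW => by
    have hW' := List.all_eq_true.mp rel_ok W hW
    apply Units.ext
    rw [Units.val_one, show CosetEnum.Fi22.pres.gens = CosetEnum.Fi22.genList from rfl,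
      coe_evalWord W (fun l hl => ?_), prod_eq_one hW']
    simp only [trivWord, Bool.and_eq_true, List.all_eq_true] at hW'
    exact Nat.le_of_ble_eq_true (hW'.1 l hl)

theorem rho_a_ne : rho (PresentedGroup.of Cfsg.Spor.Fi22.Gen.a) ≠ 1 := by
  intro h
  have h' : genUnit Cfsg.Spor.Fi22.Gen.a = 1 :=
    ((PresentedGroup.toGroup.of (f := genUnit) _).symm).trans h
  have h0 : mat 0 = 1 := congrArg Units.val h'
  have h1 := packs_runWord (n := 78) (by norm_num) (fun D hD => List.all_eq_true.mp gens_ok D hD)
    [0] (by decide) _ _ packs_one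
  have hC : runWord (mask 78) gens [0] (idCols 78) = idCols 78 := by
    have hm : ([0].map fun l => sparse (n := 78) (gens.getD l [])).prod = 1 := by
      show mat 0 * 1 = 1
      rw [h0, Matrix.one_mul]
    rw [hm, Matrix.one_mul] at h1
    have h2 := packs_one (n := 78)
    refine List.ext_getElem (by simp [runWord, step, idCols]; decide +kernel) fun j hj hj' => ?_
    have e := (h1 ⟨j, by simpa [idCols] using hj'⟩).trans (h2 ⟨j, by simpa [idCols] using hj'⟩).symm
    rwa [List.getD_eq_getElem _ _ hj, List.getD_eq_getElem _ _ hj'] at e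
  have := first_ne
  rw [hC] at this
  simp at this

theorem rho_injective : Function.Injective rho := by
  have : IsSimpleGroup Cfsg.Spor.Fi22 := CosetEnum.Fi22.simple
  rw [← MonoidHom.ker_eq_bot_iff]
  rcases IsSimpleGroup.eq_bot_or_eq_top_of_normal rho.ker inferInstance with h | h
  · exact h
  · exact absurd (MonoidHom.mem_ker.mp (h ▸ Subgroup.mem_top _ :
      PresentedGroup.of Cfsg.Spor.Fi22.Gen.a ∈ rho.ker)) rho_a_ne

end Cfsg.Agent.Fi22Rep78
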